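import Cfsg.Agent.Omega.NO3S.KeyRad.Main
import Cfsg.Agent.Omega.NO3S.Pas.PasN
import Cfsg.Agent.Omega.NO3S.BetaFF.SupNat

/-!
# The KEY for bad lines with a radical, end (#21048 (C)): an active type

`BH V F B`, `I = V ∩ B`, `i = |I : F|`, `a = |V : E|`; the bad line is `conj g • zl S Q`, `B ≤ S^g`.

* `main_conj`, `key_or` : `Key V F B`, or `i = 4`, `a = 2`, `Q` natural over a field with `≥ 4` elements, `cv S Q ≠ 1`;
* `pow_le` : `A ≤ S` acts on the blocks `J` of `L` ⟹ `q^|J| ≤ |L : C_L(A)|`;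
* `ns` : (NS) `i = 4`, `L₁ ≤ I` natural over a field with more than two elements and moved by `W ≤ S` ⟹ the field has 4
  elements, `|L₁ : L₁ ∩ F| = 4`, `I = L₁ F`, `W` acts on one block only;
* `card_zc_nat`, `card_zc_sym` : `|Ω₁(Z(S))| ≤ q` resp. `≤ 2` (no radical); `four_le_zc` : `cv S Q ≠ 1` ⟹ `|Ω₁(Z(S))| ≥ 4`;
* `key_act` **(C)** : `(S, P)` active, `cv S P = 1` ⟹ `Key V F B`; `key_fr` : over 633's front.
-/

set_option autoImplicit false
set_option linter.unusedSectionVars false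

namespace Cfsg.Agent.Omega.NO3S.KeyRad

open Subgroup Cfsg Cfsg.Agent.ZN Cfsg.Agent.ZN.ChoiceBase Cfsg.Agent.Omega.MinPar
open Cfsg.Agent.Omega.Frame Cfsg.Agent.Omega.FrameNOFF
open Cfsg.Agent.Omega.NOne.Flat (EE NN Cos card_mul_relIndex' conj_eq_of_norm conj_centralizer WW_conj EE_conj)
open Cfsg.Agent.Omega.NOne.NearFF (c)
open Cfsg.Agent.Omega.NoFF.Basic (conj_conj mem_conj conj_le_iff conj_le_centralizer)
open Cfsg.Agent.Omega.FFThm Cfsg.Agent.Omega.NatPair Cfsg.Agent.Lib.SL2Mat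
open Cfsg.Agent.Omega.NO3S.ThmB (Nb Sb sg vec_eq ap_up_0 ap_up_1)
open Cfsg.Agent.Omega.NOThreeL.Low.Key (BH)
open Cfsg.Agent.Omega.NO3S.Pas (Key WFr)
open Cfsg.Agent.Omega.FrameFF (cv)
open scoped Pointwise

universe u

/-! ### The bad line -/

section bad

variable {G : Type u} [Group G] [Finite G] {S : Sylow 2 G} {Q V F B : Subgroup G}

theorem key_of_lt (bh : BH V F B) (h : F.relIndex (V ⊓ B) < (EE V F).relIndex V ^ 2) : Key V F B :=
  fun _ hr hrF _ hb hbN y => bh.root' h hr hrF hb hbN y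

/-- the KEY from constant commutators -/
theorem key_of_root (bh : BH V F B) (hr : ∀ r ∈ V ⊓ B, r ∉ F → ∀ r' ∈ V ⊓ B, r' ∉ F →
    ∀ s ∈ NOne.Flat.WW V F, ∃ t ∈ NOne.Flat.WW V F, c r' t = c r s) : Key V F B := by
  intro r hrI hrF b hb hbN y
  obtain ⟨w, hw, hwE⟩ := bh.toHyp.exists_not_mem
  have h1 : c w b ∈ V ⊓ B := bh.c_memI hw hb
  have h2 : c w b ∉ F := fun h3 => hbN (bh.mem_NN_of_c hw hwE hb h3)
  rw [← root_of bh hw hwE h1 hb (by rw [inv_mul_cancel]; exact one_mem _)]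
  constructor
  · rintro ⟨s, hs, rfl⟩
    exact hr r hrI hrF _ h1 h2 s hs
  · rintro ⟨s, hs, rfl⟩
    exact hr _ h1 h2 r hrI hrF s hs

/-- `main` for the bad line `conj g • zl S Q`. -/
theorem main_conj (hc : IsCharacteristicTwoType G) (hQ : IsParS (S : Subgroup G) Q)
    (hT : ConclM (S : Subgroup G) Q) (bh : BH V F B) (hsq : ∀ b ∈ B, b ^ 2 = 1) {g : G}
    (hg : g ∈ normalizer (V : Set G)) (hBS : B ≤ MulAut.conj g • (S : Subgroup G))
    (hUV : MulAut.conj g • zl (S : Subgroup G) Q ≤ V) (hUE : ¬ MulAut.conj g • zl (S : Subgroup G) Q ≤ EE V F) :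
    F.relIndex (V ⊓ B) < (EE V F).relIndex V ^ 2 ∨ F.relIndex (V ⊓ B) ≤ (EE V F).relIndex V ∨
      (F.relIndex (V ⊓ B) = 4 ∧ (EE V F).relIndex V = 2 ∧ NatBig (S : Subgroup G) Q) := by
  have hg' : g⁻¹ ∈ normalizer (V : Set G) := inv_mem hg
  have eE : EE V (MulAut.conj g⁻¹ • F) = MulAut.conj g⁻¹ • EE V F := (EE_conj hg').symm
  have eV : MulAut.conj g⁻¹ • V = V := conj_eq_of_norm hg'
  have hlow : ∀ {X : Subgroup G}, MulAut.conj g • X ≤ V → X ≤ V := by
    intro X hX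
    have h2 := conj_le_iff (g := g⁻¹).2 hX
    rwa [conj_conj, inv_mul_cancel, map_one, one_smul, eV] at h2
  have h1 := main (S := S) (P := Q) (F := MulAut.conj g⁻¹ • F) (B := MulAut.conj g⁻¹ • B) hc hQ hT (bh.conj hg')
    ?_ ?_ (hlow hUV) ?_
  · have e1 : V ⊓ MulAut.conj g⁻¹ • B = MulAut.conj g⁻¹ • (V ⊓ B) := by
      rw [Subgroup.smul_inf, eV]
    rw [e1, eE, relIndex_pointwise_smul] at h1
    have e2 : (MulAut.conj g⁻¹ • EE V F).relIndex (MulAut.conj g⁻¹ • V) = (EE V F).relIndex V := by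
      rw [relIndex_pointwise_smul]
    rw [eV] at e2
    rwa [e2] at h1
  · intro b hb
    rw [mem_conj, inv_inv] at hb
    have h2 := hsq _ hb
    have e : b ^ 2 = g⁻¹ * (g * b * g⁻¹) ^ 2 * g := by rw [pow_two, pow_two]; group
    rw [e, h2]
    group
  · have h2 := conj_le_iff (g := g⁻¹).2 hBS
    rwa [conj_conj, inv_mul_cancel, map_one, one_smul] at h2
  · intro h2
    apply hUE
    rw [eE] at h2
    have h3 := conj_le_iff (g := g).2 h2
    rwa [conj_conj, mul_inv_cancel, map_one, one_smul] at h3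

/-- A bad line is FF. -/
theorem concl_conj (hFF : StmtM.{u}) (hc : IsCharacteristicTwoType G) (hQ : IsParS (S : Subgroup G) Q)
    (hlow : zl (S : Subgroup G) Q ≤ o2 (CZ (S : Subgroup G))) (bh : BH V F B) {g : G}
    (hg : g ∈ normalizer (V : Set G)) (hI : ¬ V ⊓ B ≤ F) (hBS : B ≤ MulAut.conj g • (S : Subgroup G))
    (hUV : MulAut.conj g • zl (S : Subgroup G) Q ≤ V) (hUE : ¬ MulAut.conj g • zl (S : Subgroup G) Q ≤ EE V F) :
    ConclM (S : Subgroup G) Q := by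
  have hg' : g⁻¹ ∈ normalizer (V : Set G) := inv_mem hg
  have eE : EE V (MulAut.conj g⁻¹ • F) = MulAut.conj g⁻¹ • EE V F := (EE_conj hg').symm
  have eV : MulAut.conj g⁻¹ • V = V := conj_eq_of_norm hg'
  have b' := bh.conj hg'
  have e1 : V ⊓ MulAut.conj g⁻¹ • B = MulAut.conj g⁻¹ • (V ⊓ B) := by
    rw [Subgroup.smul_inf, eV]
  have hn : ¬ NO3b.EZero.NotFF (zl (S : Subgroup G) Q) := by
    refine NOThreeL.Low.NonFF.ff (S := S) hc hQ hlow b'.toHyp b'.le_W b'.F_le b'.abel b'.norm ?_ ?_ ?_ ?_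
    · rw [e1]
      exact fun h1 => hI (conj_le_iff.1 h1)
    · have h2 := conj_le_iff (g := g⁻¹).2 hBS
      rwa [conj_conj, inv_mul_cancel, map_one, one_smul] at h2
    · have h2 := conj_le_iff (g := g⁻¹).2 hUV
      rwa [conj_conj, inv_mul_cancel, map_one, one_smul, eV] at h2
    · intro h2
      apply hUE
      rw [eE] at h2
      have h3 := conj_le_iff (g := g).2 h2
      rwa [conj_conj, mul_inv_cancel, map_one, one_smul] at h3
  obtain ⟨A, hA, ho⟩ := NOThreeL.Low.exists_off (hQ.le.trans (MinSimple.VModule.le_normalizer_zl _ _)) hn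
  exact (hFF G (S : Subgroup G) Q (MinSimple.EmptyTI.syl_of_le hQ.le)
    hQ.toIsMinPar (hQ.isLoc.char2 S hc) ⟨A, hA.trans hQ.le, ho⟩).2

/-- no radical: `i ≤ a` -/
theorem le_of_cv (hc : IsCharacteristicTwoType G) (hQ : IsParS (S : Subgroup G) Q)
    (hT : NOThreeL.Low.Tp (S : Subgroup G) Q) (bh : BH V F B) (hsq : ∀ b ∈ B, b ^ 2 = 1) {g : G}
    (hg : g ∈ normalizer (V : Set G)) (hBS : B ≤ MulAut.conj g • (S : Subgroup G))
    (hUV : MulAut.conj g • zl (S : Subgroup G) Q ≤ V) (hUE : ¬ MulAut.conj g • zl (S : Subgroup G) Q ≤ EE V F) :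
    F.relIndex (V ⊓ B) ≤ (EE V F).relIndex V := by
  have hg' : g⁻¹ ∈ normalizer (V : Set G) := inv_mem hg
  have eE : EE V (MulAut.conj g⁻¹ • F) = MulAut.conj g⁻¹ • EE V F := (EE_conj hg').symm
  have eV : MulAut.conj g⁻¹ • V = V := conj_eq_of_norm hg'
  have h0 : zl (S : Subgroup G) Q ≤ V := by
    have h2 := conj_le_iff (g := g⁻¹).2 hUV
    rwa [conj_conj, inv_mul_cancel, map_one, one_smul, eV] at h2
  have h1 := Pas.three (S := S) (P := Q) (F := MulAut.conj g⁻¹ • F) (B := MulAut.conj g⁻¹ • B) hc hQ hT (bh.conj hg')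
    ?_ ?_ h0 ?_
  · have e1 : V ⊓ MulAut.conj g⁻¹ • B = MulAut.conj g⁻¹ • (V ⊓ B) := by
      rw [Subgroup.smul_inf, eV]
    rw [e1, eE, relIndex_pointwise_smul] at h1
    have e2 : (MulAut.conj g⁻¹ • EE V F).relIndex (MulAut.conj g⁻¹ • V) = (EE V F).relIndex V := by
      rw [relIndex_pointwise_smul]
    rw [eV] at e2
    exact h1.trans ((relIndex_le_of_le_right h0 index_ne_zero_of_finite).trans e2.le)
  · intro b hb
    rw [mem_conj, inv_inv] at hb
    have h2 := hsq _ hb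
    have e : b ^ 2 = g⁻¹ * (g * b * g⁻¹) ^ 2 * g := by rw [pow_two, pow_two]; group
    rw [e, h2]
    group
  · have h2 := conj_le_iff (g := g⁻¹).2 hBS
    rwa [conj_conj, inv_mul_cancel, map_one, one_smul] at h2
  · intro h2
    apply hUE
    rw [eE] at h2
    have h3 := conj_le_iff (g := g).2 h2
    rwa [conj_conj, mul_inv_cancel, map_one, one_smul] at h3

/-- **KEY or (NS).** -/
theorem key_or (hFF : StmtM.{u}) (hc : IsCharacteristicTwoType G) (hQ : IsParS (S : Subgroup G) Q)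
    (hlow : zl (S : Subgroup G) Q ≤ o2 (CZ (S : Subgroup G))) (bh : BH V F B) (hsq : ∀ b ∈ B, b ^ 2 = 1) {g : G}
    (hg : g ∈ normalizer (V : Set G)) (hI : ¬ V ⊓ B ≤ F) (hBS : B ≤ MulAut.conj g • (S : Subgroup G))
    (hUV : MulAut.conj g • zl (S : Subgroup G) Q ≤ V) (hUE : ¬ MulAut.conj g • zl (S : Subgroup G) Q ≤ EE V F) :
    Key V F B ∨ (F.relIndex (V ⊓ B) = 4 ∧ (EE V F).relIndex V = 2 ∧ NatBig (S : Subgroup G) Q ∧
      cv (S : Subgroup G) Q ≠ ⊥) := by
  have hT := concl_conj hFF hc hQ hlow bh hg hI hBS hUV hUE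
  rcases main_conj hc hQ hT bh hsq hg hBS hUV hUE with h1 | h1 | ⟨h1, h2, h3⟩
  · exact Or.inl (key_of_lt bh h1)
  · exact Or.inl (Pas.key_of_le bh h1)
  · by_cases h4 : cv (S : Subgroup G) Q = ⊥
    · left
      refine Pas.key_of_le bh (le_of_cv hc hQ ?_ bh hsq hg hBS hUV hUE)
      unfold ConclM at hT
      rw [h4] at hT
      exact hT
    · exact Or.inr ⟨h1, h2, h3, h4⟩

end bad

/-! ### The active line -/

section nat

variable {G : Type u} [Group G] [Finite G] {K : Type} [Field K] [Finite K] [CharP K 2] {S P L D : Subgroup G} {k : ℕ}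
  {M : NatKM K S P L D k} (h : Nb M)
include h

theorem acts_upd {A : Subgroup G} {I : Set (Fin k)}
    (h2 : ∀ b : Fin k → K, (∀ i, i ∉ I → b i = 0) → ∃ a ∈ A, ActsSL M.e L D a fun i => up (b i)) {x : G} (hx : x ∈ L)
    (hxA : x ∈ centralizer (A : Set G)) {i : Fin k} (hi : i ∈ I) : M.e x i 1 = 0 := by
  classical
  obtain ⟨a, ha, haA⟩ := h2 (Function.update 0 i 1) (fun l hl => by
    rw [Function.update_of_ne (fun h3 => hl (by rw [h3]; exact hi))]; rfl)
  have h3 : a * x * a⁻¹ = x := by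
    rw [mem_centralizer_iff.1 hxA a ha, mul_inv_cancel_right]
  have h4 := congrFun (haA.1 x hx i) 0
  rw [h3, ap_up_0, Function.update_self, one_mul] at h4
  exact left_eq_add.1 h4

/-- `q^|J| ≤ |L : C_L(A)|` -/
theorem pow_le {A : Subgroup G} {I : Set (Fin k)}
    (h2 : ∀ b : Fin k → K, (∀ i, i ∉ I → b i = 0) → ∃ a ∈ A, ActsSL M.e L D a fun i => up (b i)) :
    Nat.card K ^ Nat.card I ≤ (centralizer (A : Set G)).relIndex L := by
  classical
  have hv : ∀ t : I → K, ∃ v ∈ L, M.e v = fun i => if hi : i ∈ I then ![0, t ⟨i, hi⟩] else 0 := fun t => M.surj _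
  choose v hvL hve using hv
  rw [← Nat.card_fun, relIndex, index_eq_card]
  refine Nat.card_le_card_of_injective
    (fun t : I → K => (QuotientGroup.mk (⟨v t, hvL t⟩ : L) : L ⧸ (centralizer (A : Set G)).subgroupOf L)) ?_
  intro t t' htt
  have h3 : (v t)⁻¹ * v t' ∈ centralizer (A : Set G) := by
    have h4 : (QuotientGroup.mk (⟨v t, hvL t⟩ : L) : L ⧸ (centralizer (A : Set G)).subgroupOf L) =
      QuotientGroup.mk ⟨v t', hvL t'⟩ := htt
    rw [QuotientGroup.eq, mem_subgroupOf] at h4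
    exact h4
  funext i
  have h4 := acts_upd h h2 (mul_mem (inv_mem (hvL t)) (hvL t')) h3 i.2
  rw [M.mul _ (inv_mem (hvL t)) _ (hvL t'), h.e_inv (hvL t), Pi.add_apply, Pi.add_apply, hve, hve] at h4
  simp only [dif_pos i.2, Matrix.cons_val_one, Matrix.cons_val_fin_one] at h4
  exact CharTwo.add_eq_zero.1 h4

/-- the blocks of an offender -/
theorem exists_blocks {A : Subgroup G} (hA : A ≤ S) (hoff : OffM L A) : ∃ I : Set (Fin k), I.Nonempty ∧
    (∀ a ∈ A, ∃ b : Fin k → K, (∀ i, i ∉ I → b i = 0) ∧ ActsSL M.e L D a fun i => up (b i)) ∧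
      ∀ b : Fin k → K, (∀ i, i ∉ I → b i = 0) → ∃ a ∈ A, ActsSL M.e L D a fun i => up (b i) := by
  obtain ⟨I, h1, h2⟩ := M.offM A hA hoff
  refine ⟨I, ?_, h1, h2⟩
  by_contra hI
  apply hoff.ne
  intro a ha
  obtain ⟨b, hb, hab⟩ := h1 a ha
  have hb1 : (fun i => up (b i)) = (1 : Fin k → Matrix.SpecialLinearGroup (Fin 2) K) := by
    funext i
    rw [hb i (fun hi => hI ⟨i, hi⟩), up_zero]
    rfl
  rw [hb1] at hab
  exact mem_centralizer_iff.2 fun v hv => (h.comm_of_one (h.SP' (hA ha)) hab hv).symm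

end nat

theorem card_field_ne_three (K : Type) [Field K] [Finite K] [CharP K 2] : Nat.card K ≠ 3 := by
  have := Fintype.ofFinite K
  obtain ⟨n, -, hn⟩ := FiniteField.card K 2
  rw [Nat.card_eq_fintype_card, hn]
  intro h3
  have h4 : 2 ∣ 3 := by
    rw [← h3]
    exact dvd_pow_self 2 n.ne_zero
  omega

section act

variable {G : Type u} [Group G] [Finite G] {S : Sylow 2 G} {P Q V F B : Subgroup G}

/-- `I = L F` -/
theorem sup_eq_of (bh : BH V F B) {L : Subgroup G} (hL : L ≤ V ⊓ B) (h1 : F.relIndex (V ⊓ B) ≤ F.relIndex L) :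
    L ⊔ F = V ⊓ B := by
  have hle : L ⊔ F ≤ V ⊓ B := sup_le hL bh.F_le_I
  refine eq_of_le_of_card_ge hle ?_
  rw [← card_mul_relIndex' bh.F_le_I, ← card_mul_relIndex' (le_sup_right : F ≤ L ⊔ F)]
  refine Nat.mul_le_mul_left _ (h1.trans ?_)
  exact relIndex_le_of_le_right le_sup_left index_ne_zero_of_finite

/-- **(NS)** -/
theorem ns (bh : BH V F B) {K : Type} [Field K] [Finite K] [CharP K 2] {L D : Subgroup G} {k : ℕ}
    {M : NatKM K (S : Subgroup G) P L D k} (h : Nb M) (hK : 2 < Nat.card K) (hL : L ≤ V ⊓ B)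
    (hi : F.relIndex (V ⊓ B) ≤ 4) (hWS : NOne.Flat.WW V F ≤ (S : Subgroup G)) (hoff : OffM L (NOne.Flat.WW V F)) :
    Nat.card K = 4 ∧ F.relIndex L = 4 ∧ L ⊔ F = V ⊓ B ∧ ∃ j : Fin k,
      (∀ a ∈ NOne.Flat.WW V F, ∃ b : K, ActsSL M.e L D a (sg j (up b))) ∧
      ∀ b : K, ∃ a ∈ NOne.Flat.WW V F, ActsSL M.e L D a (sg j (up b)) := by
  classical
  obtain ⟨I, ⟨j, hj⟩, h1, h2⟩ := exists_blocks h hWS hoff
  have h3 := pow_le h h2
  have h4 : (centralizer (NOne.Flat.WW V F : Set G)).relIndex L = F.relIndex L := by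
    have e1 : L ⊓ centralizer (NOne.Flat.WW V F : Set G) = L ⊓ F := by
      apply le_antisymm
      · rintro x ⟨hx1, hx2⟩
        refine ⟨hx1, ?_⟩
        have h5 : x ∈ V ⊓ centralizer (NOne.Flat.WW V F : Set G) := ⟨(hL hx1).1, hx2⟩
        rwa [bh.toHyp.cent_VW] at h5
      · rintro x ⟨hx1, hx2⟩
        refine ⟨hx1, ?_⟩
        have h5 : x ∈ V ⊓ centralizer (NOne.Flat.WW V F : Set G) := by
          rw [bh.toHyp.cent_VW]; exact hx2
        exact h5.2
    rw [← inf_relIndex_left, e1, inf_relIndex_left]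
  rw [h4] at h3
  have h5 : F.relIndex L ≤ F.relIndex (V ⊓ B) := relIndex_le_of_le_right hL index_ne_zero_of_finite
  have h6 : Nat.card K ^ Nat.card I ≤ 4 := h3.trans (h5.trans hi)
  have h7 : Nat.card K ≠ 3 := card_field_ne_three K
  have h8 : 1 ≤ Nat.card I := Nat.one_le_iff_ne_zero.2 (Nat.card_ne_zero.2 ⟨⟨⟨j, hj⟩⟩, inferInstance⟩)
  have h9 : Nat.card I = 1 := by
    by_contra hne
    have h10 : Nat.card K ^ 2 ≤ Nat.card K ^ Nat.card I := Nat.pow_le_pow_right (by omega) (by omega)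
    have h11 : 4 ^ 2 ≤ Nat.card K ^ 2 := Nat.pow_le_pow_left (by omega) 2
    omega
  rw [h9, pow_one] at h6 h3
  have h10 : Nat.card K = 4 := by omega
  have h11 : F.relIndex L = 4 := by omega
  refine ⟨h10, h11, sup_eq_of bh hL (by omega), j, ?_, ?_⟩
  · have hsub : ∀ i, i ∈ I → i = j := by
      intro i hi'
      have h12 := (Nat.card_eq_one_iff_unique.1 h9).1
      have h13 := h12.elim (⟨i, hi'⟩ : I) ⟨j, hj⟩
      exact congrArg Subtype.val h13
    intro a ha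
    obtain ⟨b, hb, hab⟩ := h1 a ha
    refine ⟨b j, ?_⟩
    have e1 : (fun i => up (b i)) = sg j (up (b j)) := by
      refine ThmB.eq_sg fun l hl => ?_
      rw [hb l (fun h13 => hl (hsub l h13)), up_zero]
    rwa [← e1]
  · intro b
    obtain ⟨a, ha, haA⟩ := h2 (Function.update 0 j b) (fun l hl => by
      rw [Function.update_of_ne (fun h13 => hl (by rw [h13]; exact hj))]; rfl)
    refine ⟨a, ha, ?_⟩
    have e1 : (fun i => up (Function.update (0 : Fin k → K) j b i)) = sg j (up b) := by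
      funext i
      by_cases hij : i = j
      · rw [hij, Function.update_self, ThmB.sg_self]
      · rw [Function.update_of_ne hij, ThmB.sg_ne hij, Pi.zero_apply, up_zero]
    rwa [← e1]

/-- constant commutators: one block, no radical -/
theorem root_of_one {K : Type} [Field K] [CharP K 2] {L D A : Subgroup G} {k : ℕ} (hD : D = ⊥)
    {M : NatKM K (S : Subgroup G) P L D k} (h : Nb M)
    (hAP : A ≤ P) {j : Fin k} (h1 : ∀ a ∈ A, ∃ b : K, ActsSL M.e L D a (sg j (up b)))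
    (h2 : ∀ b : K, ∃ a ∈ A, ActsSL M.e L D a (sg j (up b))) {l l' : G} (hl : l ∈ L) (hl' : l' ∈ L)
    (hlA : l' ∉ centralizer (A : Set G)) {s : G} (hs : s ∈ A) : ∃ t ∈ A, c l' t = c l s := by
  classical
  -- the coordinates of `[v, a]`
  subst hD
  have key : ∀ v ∈ L, ∀ a ∈ A, ∀ b : K, ActsSL M.e L ⊥ a (sg j (up b)) →
      c v a ∈ L ∧ M.e (c v a) = fun i => if i = j then ![b * M.e v j 1, 0] else 0 := by
    intro v hv a ha b hab
    have hav := h.memV (hAP ha) hv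
    have e1 : c v a = v * (a * v * a⁻¹)⁻¹ := by rw [c]; group
    have hm : c v a ∈ L := by
      rw [e1]
      exact mul_mem hv (inv_mem hav)
    refine ⟨hm, ?_⟩
    rw [e1, M.mul v hv _ (inv_mem hav), h.e_inv hav]
    funext i
    rw [Pi.add_apply, hab.1 v hv i]
    by_cases hij : i = j
    · subst hij
      rw [if_pos rfl, ThmB.sg_self]
      refine vec_eq ?_ ?_
      · rw [Pi.add_apply, ap_up_0, Matrix.cons_val_zero, ← add_assoc, CharTwo.add_self_eq_zero, zero_add]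
      · rw [Pi.add_apply, ap_up_1, CharTwo.add_self_eq_zero]
        rfl
    · rw [if_neg hij, ThmB.sg_ne hij, ap_one]
      funext z
      exact CharTwo.add_self_eq_zero _
  have hinj : ∀ v ∈ L, ∀ w ∈ L, M.e v = M.e w → v = w := by
    intro v hv w hw hvw
    exact mul_inv_eq_one.1 (mem_bot.1 ((h.mem_D hv hw).2 hvw))
  have hx : M.e l' j 1 ≠ 0 := by
    intro h0
    apply hlA
    refine mem_centralizer_iff.2 fun a ha => ?_
    obtain ⟨b, hb⟩ := h1 a ha
    obtain ⟨h3, h4⟩ := key l' hl' a ha b hb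
    have h5 : c l' a = 1 := by
      refine hinj _ h3 1 (one_mem _) ?_
      rw [h4, h0, mul_zero, Nb.e_one (M := M)]
      funext i
      split_ifs
      · exact vec_eq rfl rfl
      · rfl
    exact (NOThreeL.Low.Key.comm_of_c h5).symm
  obtain ⟨b, hb⟩ := h1 s hs
  obtain ⟨t, ht, htb⟩ := h2 (b * M.e l j 1 / M.e l' j 1)
  refine ⟨t, ht, ?_⟩
  obtain ⟨h3, h4⟩ := key l' hl' t ht _ htb
  obtain ⟨h5, h6⟩ := key l hl s hs b hb
  refine hinj _ h3 _ h5 ?_
  rw [h4, h6, div_mul_cancel₀ _ hx]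

end act

/-! ### `Ω₁(Z(S))` -/

section zc

variable {G : Type u} [Group G] [Finite G] {S : Sylow 2 G} {P Q : Subgroup G}

/-- `|Z| ≤ q` -/
theorem card_zc_nat (hc : IsCharacteristicTwoType G) (hP : IsParS (S : Subgroup G) P) {K : Type} [Field K] [Finite K]
    [CharP K 2] {k : ℕ} (hk : 0 < k) (M : NatKM K (S : Subgroup G) P (zl (S : Subgroup G) P) (cv (S : Subgroup G) P) k)
    (hcv : cv (S : Subgroup G) P = ⊥) : Nat.card (zc (S : Subgroup G)) ≤ Nat.card K := by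
  classical
  have h := ThmB.Inst.nb hc hP M
  have hZL := MinSimple.VModule.zc_le_zl (S : Subgroup G) P
  have hZS : ∀ z ∈ zc (S : Subgroup G), ∀ s ∈ (S : Subgroup G), s * z * s⁻¹ = z := fun z hz s hs => by
    rw [(MinSimple.VModule.mem_zc.1 hz).2.1 s hs, mul_inv_cancel_right]
  let i0 : Fin k := ⟨0, hk⟩
  -- `z` is determined by one coordinate
  have key : ∀ z ∈ zc (S : Subgroup G), M.e z i0 0 = 0 → z = 1 := by
    intro z hz h0
    have hone : ∀ i, M.e z i 1 = 0 := by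
      intro i
      obtain ⟨t, ht, htA⟩ := M.unip fun _ => 1
      have h1 := congrFun (htA.1 z (hZL hz) i) 0
      rw [hZS z hz t ht, ap_up_0, one_mul] at h1
      exact left_eq_add.1 h1
    have hz0 : M.e z i0 = 0 := vec_eq h0 (hone i0)
    have hall : M.e z = 0 := by
      funext j
      obtain ⟨t, ht, htj⟩ := M.trans i0 j
      have h1 := (htj z (hZL hz)).2 hz0
      rwa [hZS z hz t ht] at h1
    have h1 := (M.ker z (hZL hz)).1 hall
    rw [hcv] at h1
    exact mem_bot.1 h1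
  refine Nat.card_le_card_of_injective (fun z : zc (S : Subgroup G) => M.e z i0 0) fun z z' hzz => ?_
  have h1 : M.e ((z : G)⁻¹ * z') i0 0 = 0 := by
    rw [M.mul _ (inv_mem (hZL z.2)) _ (hZL z'.2), h.e_inv (hZL z.2), Pi.add_apply, Pi.add_apply]
    have h2 : M.e (z : G) i0 0 = M.e (z' : G) i0 0 := hzz
    rw [h2]
    exact CharTwo.add_self_eq_zero _
  exact Subtype.ext (inv_mul_eq_one.1 (key _ (mul_mem (inv_mem z.2) z'.2) h1))

/-- `|Z| ≤ 2` -/
theorem card_zc_sym (hc : IsCharacteristicTwoType G) (hP : IsParS (S : Subgroup G) P) {k m : ℕ} (hk : 0 < k)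
    (hm : 2 ≤ m) (M : SymKM (S : Subgroup G) P (zl (S : Subgroup G) P) (cv (S : Subgroup G) P) k m)
    (hcv : cv (S : Subgroup G) P = ⊥) : Nat.card (zc (S : Subgroup G)) ≤ 2 := by
  classical
  have h := ThmB.Inst.sb hc hP hm M
  have hmm := OneLine.minH hc hP
  have hs := OneLine.sy_of hmm M.toSymK hk (by omega) SQ1.FFOf.cv_le SQ1.FFOf.cv_norm
  have hZL := MinSimple.VModule.zc_le_zl (S : Subgroup G) P
  have hZS : ∀ z ∈ zc (S : Subgroup G), ∀ s ∈ (S : Subgroup G), s * z * s⁻¹ = z := fun z hz s hs => by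
    rw [(MinSimple.VModule.mem_zc.1 hz).2.1 s hs, mul_inv_cancel_right]
  let i0 : Fin k := ⟨0, hk⟩
  have h5 := h.five
  let x0 : Fin (2 ^ m + 1) := ⟨1, by omega⟩
  have hx0 : x0 ≠ 0 := by
    intro h1
    have := congrArg Fin.val h1
    simp [x0] at this
  have key : ∀ z ∈ zc (S : Subgroup G), M.e z i0 x0 = 0 → z = 1 := by
    intro z hz h0
    -- the block `i0`
    have h1 : ∀ x, x ≠ 0 → M.e z i0 x = 0 := by
      intro x hx
      obtain ⟨t, ht, π, htg, hπ⟩ := OneLine.cyc_T' hmm M.toSymK hs (by omega) i0 hx0 hx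
      have h2 := htg.act z (hZL hz) i0 x0
      rw [hZS z hz t ht, Equiv.Perm.one_apply, Pi.mulSingle_eq_same, hπ, h0] at h2
      exact h2
    have h2 : M.e z i0 0 = 0 := by
      have h3 := M.even z (hZL hz) i0
      rwa [Finset.sum_eq_single (0 : Fin (2 ^ m + 1)) (fun y _ hy => h1 y hy)
        (fun h4 => absurd (Finset.mem_univ _) h4)] at h3
    have hall : M.e z = 0 := by
      funext j x
      obtain ⟨t, ht, σ, τ, hστ, hσ⟩ := M.trans i0 j
      have h3 := hστ z (hZL hz) i0 ((τ i0)⁻¹ x)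
      rw [hZS z hz t ht, hσ, ThmB.pinv] at h3
      rw [h3]
      by_cases h4 : (τ i0)⁻¹ x = 0
      · rw [h4]; exact h2
      · exact h1 _ h4
    have h3 := (M.ker z (hZL hz)).1 hall
    rw [hcv] at h3
    exact mem_bot.1 h3
  have h6 : Nat.card (ZMod 2) = 2 := by rw [Nat.card_zmod]
  refine (Nat.card_le_card_of_injective (fun z : zc (S : Subgroup G) => M.e z i0 x0) fun z z' hzz => ?_).trans h6.le
  have h1 : M.e ((z : G)⁻¹ * z') i0 x0 = 0 := by
    rw [M.mul _ (inv_mem (hZL z.2)) _ (hZL z'.2), h.e_inv (hZL z.2), Pi.add_apply, Pi.add_apply]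
    have h2 : M.e (z : G) i0 x0 = M.e (z' : G) i0 x0 := hzz
    rw [h2]
    exact CharTwo.add_self_eq_zero _
  exact Subtype.ext (inv_mul_eq_one.1 (key _ (mul_mem (inv_mem z.2) z'.2) h1))

/-- a radical: `|Z| ≥ 4` -/
theorem four_le_zc (hc : IsCharacteristicTwoType G) (hQ : IsParS (S : Subgroup G) Q)
    (hcv : cv (S : Subgroup G) Q ≠ ⊥) : 4 ≤ Nat.card (zc (S : Subgroup G)) := by
  have hcvS : cv (S : Subgroup G) Q ≤ (S : Subgroup G) :=
    inf_le_left.trans ((hQ.isLoc.zl_le S hc).trans ((zc_le _).trans (hQ.isLoc.o2_le S)))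
  have hn : (S : Subgroup G) ≤ normalizer (cv (S : Subgroup G) Q : Set G) := hQ.le.trans ThmB.Inst.le_normalizer_cv
  obtain ⟨y, hy, hy1, hyS⟩ := OneLine.exists_fixed (S := (S : Subgroup G)) (M := ⊥) S.isPGroup' hcvS hn
    (fun h1 => hcv (le_bot_iff.1 h1))
  have hyZ : y ∈ zc (S : Subgroup G) := by
    refine MinSimple.VModule.mem_zc.2 ⟨hcvS hy, fun s hs => ?_, ?_⟩
    · exact mul_inv_eq_iff_eq_mul.1 (mul_inv_eq_one.1 (mem_bot.1 (hyS s hs)))
    · exact (ThmB.Inst.zl_el hc hQ).2 y hy.1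
  set X := zc (S : Subgroup G) ⊓ cv (S : Subgroup G) Q with hX
  have h1 : 2 ≤ Nat.card X := by
    have h2 : Nat.card X ≠ 1 := fun h3 => by
      have h4 := eq_bot_of_card_eq X h3
      have h5 : y ∈ X := mem_inf.2 ⟨hyZ, hy⟩
      rw [h4] at h5
      exact hy1 h5
    have h3 : 0 < Nat.card X := Nat.card_pos
    omega
  have h2 : X.relIndex (zc (S : Subgroup G)) ≠ 1 := fun h3 =>
    BetaFF.not_zc_le_cv hQ ((relIndex_eq_one.1 h3).trans inf_le_right)
  have h3 : X.relIndex (zc (S : Subgroup G)) ≠ 0 := index_ne_zero_of_finite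
  have h4 : 2 ≤ X.relIndex (zc (S : Subgroup G)) := by omega
  rw [← card_mul_relIndex' (inf_le_left : X ≤ zc (S : Subgroup G))]
  calc 4 = 2 * 2 := rfl
    _ ≤ _ := Nat.mul_le_mul h1 h4

end zc

/-! ### The KEY -/

section key

variable {G : Type u} [Group G] [Finite G] {S : Sylow 2 G} {P Q V F B : Subgroup G}

/-- **(C)**: `(S, P)` active, no radical ⟹ KEY. -/
theorem key_act (hFF : StmtM.{u}) (hA : BetaFF.Act S P V F) (bh : BH V F B) (hsq : ∀ b ∈ B, b ^ 2 = 1)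
    (hL : zl (S : Subgroup G) P ≤ V ⊓ B) (hQ : IsParS (S : Subgroup G) Q)
    (hlow : zl (S : Subgroup G) Q ≤ o2 (CZ (S : Subgroup G))) {g : G} (hg : g ∈ normalizer (V : Set G))
    (hBS : B ≤ MulAut.conj g • (S : Subgroup G)) (hUV : MulAut.conj g • zl (S : Subgroup G) Q ≤ V)
    (hUE : ¬ MulAut.conj g • zl (S : Subgroup G) Q ≤ EE V F) : Key V F B := by
  have hLF : ¬ zl (S : Subgroup G) P ≤ F := by
    intro h1
    apply hA.mov
    intro s hs
    rw [mem_centralizer_iff]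
    exact fun l hl => NOne.Flat.Hyp.F_comm (h1 hl) (NOne.Flat.Hyp.W_le_X hs)
  have hI : ¬ V ⊓ B ≤ F := fun h1 => hLF (hL.trans h1)
  rcases key_or hFF hA.char2 hQ hlow bh hsq hg hI hBS hUV hUE with h1 | ⟨h1, -, -, h4⟩
  · exact h1
  · have h5 := four_le_zc hA.char2 hQ h4
    rcases (hA.ff hFF).2 with ⟨K, fK, fiK, cK, k, hk, ⟨M⟩⟩ | ⟨k, m, hk, hm, ⟨M⟩⟩
    · have h6 := card_zc_nat hA.char2 hA.par hk M hA.cv
      have h := ThmB.Inst.nb hA.char2 hA.par M
      obtain ⟨-, -, h7, j, h8, h9⟩ := ns bh h (by omega) hL h1.le hA.WS hA.offM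
      refine key_of_root bh fun r hr hrF r' hr' hrF' s hs => ?_
      rw [← h7] at hr hr'
      have hF : F ≤ normalizer (zl (S : Subgroup G) P : Set G) := by
        have h11 : F ≤ centralizer (zl (S : Subgroup G) P : Set G) := fun f hf => mem_centralizer_iff.2 fun x hx =>
          bh.toHyp.V_comm (hL hx).1 (bh.toHyp.F_le_V hf)
        exact h11.trans (centralizer_le_normalizer _)
      obtain ⟨l, hl, f, hf, rfl⟩ := Pas.mem_sup_of_norm hF hr
      obtain ⟨l', hl', f', hf', rfl⟩ := Pas.mem_sup_of_norm hF hr'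
      have hcf : ∀ l f s : G, f ∈ F → s ∈ NOne.Flat.WW V F → c (l * f) s = c l s := by
        intro l f s hf hs
        have h12 : f * s = s * f := NOne.Flat.Hyp.F_comm hf (NOne.Flat.Hyp.W_le_X hs)
        rw [c, c]
        calc l * f * s * (l * f)⁻¹ * s⁻¹ = l * (f * s) * f⁻¹ * l⁻¹ * s⁻¹ := by group
          _ = l * (s * f) * f⁻¹ * l⁻¹ * s⁻¹ := by rw [h12]
          _ = _ := by group
      have hl'A : l' ∉ centralizer (NOne.Flat.WW V F : Set G) := by
        intro h12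
        apply hrF'
        have h13 : l' ∈ V ⊓ centralizer (NOne.Flat.WW V F : Set G) := ⟨(hL hl').1, h12⟩
        rw [bh.toHyp.cent_VW] at h13
        exact mul_mem h13 hf'
      obtain ⟨t, ht, hts⟩ := root_of_one hA.cv h hA.WP h8 h9 hl hl' hl'A hs
      refine ⟨t, ht, ?_⟩
      rw [hcf _ _ _ hf' ht, hcf _ _ _ hf hs, hts]
    · have h6 := card_zc_sym hA.char2 hA.par hk hm M hA.cv
      omega

/-- **KEY over 633's front** `Fr S M V F n`: bad line at distance `≤ n`, `(S, P)` active, `cv S P = 1`. -/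
theorem key_fr (hFF : StmtM.{u}) {M : Subgroup G} {n : ℕ} (f : NOThreeL.Low.Fr S M V F n) (w : WFr S M V F)
    (hP : IsParS (S : Subgroup G) P) (hcv : cv (S : Subgroup G) P = ⊥) (hact : ¬ NOne.Flat.WW V F ≤ o2 P)
    (hQ : IsParS (S : Subgroup G) Q) {j : ℕ} (hj : j ≤ n) {g : G}
    (hg : NOThreeL.Low.Ch M (S : Subgroup G) (NOne.Flat.WW V F) j g)
    (hUE : ¬ MulAut.conj g • zl (S : Subgroup G) Q ≤ EE V F) : Key V F (Pas.BL M (S : Subgroup G) V F n) :=
  key_act hFF (w.act hP hcv hact) (Pas.bh f) f.sup_sq (w.L_le_IN n hP) hQ (w.low Q hQ) (f.MV (f.mem_M hg))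
    (Pas.BL_le_conj f hj hg) (f.line_le_V (f.mem_M hg) hQ) hUE

end key

end Cfsg.Agent.Omega.NO3S.KeyRad
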