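import Cfsg.Agent.Omega.NO3S.ThmB.Inst

/-!
# Natural lines with a radical: the groups `[U, L_j]` (#21048)

`M : NatKM F S P U D k`, `h : Nb M`.

* `cent_off` : an element which acts as `A ∈ SL₂(F)^k` and centralises `D` centralises all `d ∈ U` with `e d l = 0`
  whenever `A l ≠ 1`;
* `blk M j = ⟨[c, v] : v ∈ U, c acts as A on the `j`-th summand and trivially on D and the other summands⟩`;
* `Nb.comm_blk` **(EQ)** : `x ∈ P` acts trivially on the `j`-th summand of `U / D` ⟹ `x` centralises `blk M j`;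
* `Nb.exists_blk` : if `zc S ≤ E`, `U ≰ E`, then `blk M j ≰ E` for some `j`.
-/

set_option autoImplicit false
set_option linter.unusedSectionVars false

namespace Cfsg.Agent.Omega.NO3S.KeyRad

open Subgroup Cfsg Cfsg.Agent.ZN Cfsg.Agent.ZN.ChoiceBase
open Cfsg.Agent.Omega.FFThm Cfsg.Agent.Omega.NatPair Cfsg.Agent.Lib.SL2Mat
open Cfsg.Agent.Omega.NO3S.ThmB

universe u

variable {G : Type u} [Group G] {F : Type} [Field F] {S P U D : Subgroup G} {k : ℕ}

/-- `[U, L_j]` -/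
def blk (M : NatKM F S P U D k) (j : Fin k) : Subgroup G :=
  closure {y | ∃ c ∈ P, ∃ A, ActsSL M.e U D c (sg j A) ∧ ∃ v ∈ U, y = c * v * c⁻¹ * v⁻¹}

theorem mem_blk {M : NatKM F S P U D k} {j : Fin k} {c : G} (hc : c ∈ P) {A : Matrix.SpecialLinearGroup (Fin 2) F}
    (hA : ActsSL M.e U D c (sg j A)) {v : G} (hv : v ∈ U) : c * v * c⁻¹ * v⁻¹ ∈ blk M j :=
  subset_closure ⟨c, hc, A, hA, v, hv, rfl⟩

variable {M : NatKM F S P U D k} (h : Nb M)
include h

/-- **(dir)** for several summands -/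
theorem cent_off [CharP F 2] {g : G} {A : Fin k → Matrix.SpecialLinearGroup (Fin 2) F} (hg : g ∈ P)
    (hA : ActsSL M.e U D g A) {d : G} (hd : d ∈ U) (h0 : ∀ l, A l ≠ 1 → M.e d l = 0) : g * d = d * g := by
  classical
  have key : ∀ s : Finset (Fin k), (∀ l ∈ s, A l = 1) → ∀ d ∈ U, (∀ l, l ∉ s → M.e d l = 0) → g * d = d * g := by
    intro s
    induction s using Finset.induction_on with
    | empty =>
      intro _ d hd h0
      have h1 : d ∈ D := (M.ker d hd).1 (funext fun l => h0 l (Finset.notMem_empty l))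
      exact hA.2 d h1
    | insert a s has ih =>
      intro hs d hd h0
      obtain ⟨v, hv, hva, hvl⟩ := Nb.exists_single M a (M.e d a)
      have h1 : g * v = v * g := h.dir hg hA (hs a (Finset.mem_insert_self a s)) hv hvl
      have h2 : g * (d * v⁻¹) = d * v⁻¹ * g := by
        refine ih (fun l hl => hs l (Finset.mem_insert_of_mem hl)) _ (mul_mem hd (inv_mem hv)) fun l hl => ?_
        rw [h.e_div hd hv, Pi.add_apply]
        by_cases hla : l = a
        · rw [hla, hva]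
          funext i
          exact CharTwo.add_self_eq_zero _
        · rw [hvl l hla, h0 l (fun h3 => (Finset.mem_insert.1 h3).elim hla hl), add_zero]
      have h3 : d = d * v⁻¹ * v := by group
      rw [h3]
      exact (show Commute g (d * v⁻¹) from h2).mul_right (show Commute g v from h1)
  refine key (Finset.univ.filter fun l => A l = 1) (fun l hl => (Finset.mem_filter.1 hl).2) d hd fun l hl => h0 l ?_
  intro h1
  exact hl (Finset.mem_filter.2 ⟨Finset.mem_univ l, h1⟩)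

/-- a single factor centralises `{d : e d j = 0}` -/
theorem cent_sg [CharP F 2] {j : Fin k} {c : G} (hc : c ∈ P) {A : Matrix.SpecialLinearGroup (Fin 2) F}
    (hA : ActsSL M.e U D c (sg j A)) {d : G} (hd : d ∈ U) (h0 : M.e d j = 0) : c * d = d * c := by
  refine cent_off h hc hA hd fun l hl => ?_
  by_cases hlj : l = j
  · rw [hlj, h0]
  · exact absurd (sg_ne hlj A) hl

/-- `[c, v]` depends only on the `j`-th coordinate of `v` -/
theorem sg_congr [CharP F 2] {j : Fin k} {c : G} (hc : c ∈ P) {A : Matrix.SpecialLinearGroup (Fin 2) F}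
    (hA : ActsSL M.e U D c (sg j A)) {v w : G} (hv : v ∈ U) (hw : w ∈ U) (hvw : M.e v j = M.e w j) :
    c * v * c⁻¹ * v⁻¹ = c * w * c⁻¹ * w⁻¹ := by
  have h1 : M.e (v * w⁻¹) j = 0 := by
    rw [h.e_div hv hw, Pi.add_apply, hvw]
    funext i
    exact CharTwo.add_self_eq_zero _
  have h2 := cent_sg h hc hA (mul_mem hv (inv_mem hw)) h1
  have h3 : c * v * c⁻¹ * v⁻¹ = (c * (v * w⁻¹)) * w * c⁻¹ * v⁻¹ := by group
  have h4 : c * w * c⁻¹ ∈ U := h.memV hc hw
  rw [h3, h2]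
  calc v * w⁻¹ * c * w * c⁻¹ * v⁻¹ = v * w⁻¹ * (c * w * c⁻¹) * v⁻¹ := by group
    _ = (c * w * c⁻¹) * (v * w⁻¹) * v⁻¹ := by rw [h.cm (mul_mem hv (inv_mem hw)) h4]
    _ = c * w * c⁻¹ * (v * (w⁻¹ * v⁻¹)) := by group
    _ = c * w * c⁻¹ * (v * (v⁻¹ * w⁻¹)) := by rw [h.cm (inv_mem hw) (inv_mem hv)]
    _ = _ := by group

theorem blk_le (j : Fin k) : blk M j ≤ U := by
  rw [blk, closure_le]
  rintro _ ⟨c, hc, A, -, v, hv, rfl⟩
  exact mul_mem (h.memV hc hv) (inv_mem hv)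

theorem e_blk [CharP F 2] {j l : Fin k} (hl : l ≠ j) {w : G} (hw : w ∈ blk M j) : M.e w l = 0 := by
  have key : blk M j ≤ U ∧ ∀ w ∈ blk M j, M.e w l = 0 := by
    refine ⟨blk_le h j, fun w hw => ?_⟩
    refine closure_induction (p := fun w _ => M.e w l = 0) ?_ ?_ ?_ ?_ hw
    · rintro _ ⟨c, hc, A, hA, v, hv, rfl⟩
      rw [h.e_div (h.memV hc hv) hv, Pi.add_apply, hA.1 v hv l, sg_ne hl, ap_one]
      funext i
      exact CharTwo.add_self_eq_zero _
    · rw [Nb.e_one (M := M)]; rfl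
    · intro x y hx hy h1 h2
      rw [M.mul x (blk_le h j hx) y (blk_le h j hy), Pi.add_apply, h1, h2, add_zero]
    · intro x hx h1
      rw [h.e_inv (blk_le h j hx), h1]
  exact key.2 w hw

/-- `blk M j` covers the `j`-th coordinate -/
theorem exists_blk_e [CharP F 2] (j : Fin k) (x : Fin 2 → F) : ∃ w ∈ blk M j, M.e w j = x := by
  obtain ⟨w1, hw1, hw1j, -⟩ := Nb.exists_single M j ![0, x 0]
  obtain ⟨w2, hw2, hw2j, -⟩ := Nb.exists_single M j ![x 1, 0]
  obtain ⟨c1, hc1, hc1A⟩ := M.lift (sg j (up 1))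
  obtain ⟨c2, hc2, hc2A⟩ := M.lift (sg j (lo 1))
  have m1 := mem_blk hc1 hc1A hw1
  have m2 := mem_blk hc2 hc2A hw2
  refine ⟨_, mul_mem m1 m2, ?_⟩
  rw [M.mul _ (blk_le h j m1) _ (blk_le h j m2), h.e_div (h.memV hc1 hw1) hw1, h.e_div (h.memV hc2 hw2) hw2,
    Pi.add_apply, Pi.add_apply, Pi.add_apply, hc1A.1 w1 hw1 j, hc2A.1 w2 hw2 j, sg_self, sg_self, hw1j, hw2j]
  refine vec_eq ?_ ?_
  · rw [Pi.add_apply, Pi.add_apply, Pi.add_apply, ap_up_0, ap_lo_0]
    simp only [Matrix.cons_val_zero, Matrix.cons_val_one, one_mul, zero_add, add_zero]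
    rw [CharTwo.add_self_eq_zero, add_zero]
  · rw [Pi.add_apply, Pi.add_apply, Pi.add_apply, ap_up_1, ap_lo_1]
    simp only [Matrix.cons_val_zero, Matrix.cons_val_one, one_mul, add_zero]
    rw [CharTwo.add_self_eq_zero, zero_add]

/-- `[c, v] = [c, w]` for some `w ∈ blk M j` -/
theorem exists_blk_comm [CharP F 2] {j : Fin k} {c : G} (hc : c ∈ P) {A : Matrix.SpecialLinearGroup (Fin 2) F}
    (hA : ActsSL M.e U D c (sg j A)) {v : G} (hv : v ∈ U) :
    ∃ w ∈ blk M j, c * v * c⁻¹ * v⁻¹ = c * w * c⁻¹ * w⁻¹ := by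
  obtain ⟨w, hw, hwj⟩ := exists_blk_e h j (M.e v j)
  exact ⟨w, hw, sg_congr h hc hA hv (blk_le h j hw) hwj.symm⟩

/-- additivity of the conjugation -/
theorem e_conj_mul {g v w : G} (hg : g ∈ P) (hv : v ∈ U) (hw : w ∈ U) :
    M.e (g * (v * w) * g⁻¹) = M.e (g * v * g⁻¹) + M.e (g * w * g⁻¹) := by
  have e1 : g * (v * w) * g⁻¹ = g * v * g⁻¹ * (g * w * g⁻¹) := by group
  rw [e1, M.mul _ (h.memV hg hv) _ (h.memV hg hw)]

/-- **(EQ)** -/
theorem comm_blk [CharP F 2] {j : Fin k} {x : G} (hx : x ∈ P)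
    (hxv : ∀ v ∈ U, (∀ l, l ≠ j → M.e v l = 0) → M.e (x * v * x⁻¹) = M.e v) {w : G} (hw : w ∈ blk M j) :
    x * w = w * x := by
  obtain ⟨σ, hσ⟩ := M.perm x hx
  -- `σ j = j`
  have hσj : σ j = j := by
    obtain ⟨v, hv, hvj, hvl⟩ := Nb.exists_single M j ![1, 0]
    by_contra hne
    have h1 := (hσ v hv j).1 (by rw [hxv v hv hvl]; exact hvl _ hne)
    rw [hvj] at h1
    exact one_ne_zero (congrFun h1 0)
  -- the `j`-th coordinate of every vector is fixed
  have hxj : ∀ v ∈ U, M.e (x * v * x⁻¹) j = M.e v j := by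
    intro v hv
    obtain ⟨w, hw, hwj, hwl⟩ := Nb.exists_single M j (M.e v j)
    have h1 : M.e (v * w⁻¹) j = 0 := by
      rw [h.e_div hv hw, Pi.add_apply, hwj]
      funext i
      exact CharTwo.add_self_eq_zero _
    have h2 := (hσ _ (mul_mem hv (inv_mem hw)) j).2 h1
    rw [hσj] at h2
    have h3 : M.e (x * v * x⁻¹) = M.e (x * (v * w⁻¹) * x⁻¹) + M.e (x * w * x⁻¹) := by
      rw [← e_conj_mul h hx (mul_mem hv (inv_mem hw)) hw, inv_mul_cancel_right]
    rw [h3, Pi.add_apply, h2, zero_add, hxv w hw hwl, hwj]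
  have hgen : ∀ c ∈ P, ∀ A, ActsSL M.e U D c (sg j A) → ∀ v ∈ U,
      x * (c * v * c⁻¹ * v⁻¹) * x⁻¹ = c * v * c⁻¹ * v⁻¹ := by
    intro c hc A hA v hv
    have hyP : x * c * x⁻¹ ∈ P := mul_mem (mul_mem hx hc) (inv_mem hx)
    have hy : ActsSL M.e U D (x * c * x⁻¹) (sg j A) := by
      refine ⟨fun v hv i => ?_, fun d hd => ?_⟩
      · have hu : x⁻¹ * v * x ∈ U := by
          have := h.memV (inv_mem hx) hv
          rwa [inv_inv] at this
        have hcu : c * (x⁻¹ * v * x) * c⁻¹ ∈ U := h.memV hc hu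
        have m := mem_blk hc hA hu
        have e1 : x * c * x⁻¹ * v * (x * c * x⁻¹)⁻¹ = x * (c * (x⁻¹ * v * x) * c⁻¹) * x⁻¹ := by group
        have e2 : M.e v = M.e (x * (x⁻¹ * v * x) * x⁻¹) := by
          congr 1
          group
        by_cases hi : i = j
        · subst hi
          rw [e1, hxj _ hcu, hA.1 _ hu, sg_self, e2, hxj _ hu]
        · have e3 : c * (x⁻¹ * v * x) * c⁻¹ = c * (x⁻¹ * v * x) * c⁻¹ * (x⁻¹ * v * x)⁻¹ * (x⁻¹ * v * x) := by group
          rw [e1, e3, e_conj_mul h hx (blk_le h j m) hu, Pi.add_apply, ← e2, sg_ne hi, ap_one]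
          have h4 : M.e (x * (c * (x⁻¹ * v * x) * c⁻¹ * (x⁻¹ * v * x)⁻¹) * x⁻¹) i = 0 := by
            have h5 := hσ _ (blk_le h j m) (σ.symm i)
            rw [σ.apply_symm_apply] at h5
            refine h5.2 (e_blk h (fun h6 => hi ?_) m)
            rw [← hσj, ← h6, σ.apply_symm_apply]
          rw [h4, zero_add]
      · have hd' : x⁻¹ * d * x ∈ D := by
          have := conj_mem h.DP' (inv_mem hx) hd
          rwa [inv_inv] at this
        have h5 := hA.2 _ hd'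
        calc x * c * x⁻¹ * d = x * (c * (x⁻¹ * d * x)) * x⁻¹ := by group
          _ = x * (x⁻¹ * d * x * c) * x⁻¹ := by rw [h5]
          _ = d * (x * c * x⁻¹) := by group
    have hxvU := h.memV hx hv
    have h6 := h.same hyP hc hy hA hxvU
    have h7 := sg_congr h hc hA hxvU hv (hxj v hv)
    calc x * (c * v * c⁻¹ * v⁻¹) * x⁻¹ =
        x * c * x⁻¹ * (x * v * x⁻¹) * (x * c * x⁻¹)⁻¹ * (x * v * x⁻¹)⁻¹ := by group
      _ = c * (x * v * x⁻¹) * c⁻¹ * (x * v * x⁻¹)⁻¹ := by rw [h6]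
      _ = _ := h7
  have hle : blk M j ≤ centralizer ({x} : Set G) := by
    rw [blk, closure_le]
    rintro _ ⟨c, hc, A, hA, v, hv, rfl⟩
    rw [SetLike.mem_coe, mem_centralizer_singleton_iff]
    exact (mul_inv_eq_iff_eq_mul.1 (hgen c hc A hA v hv)).symm
  exact (mem_centralizer_singleton_iff.1 (hle hw)).symm

/-- a conjugate of a single factor is a single factor -/
theorem conj_sg [CharP F 2] {j : Fin k} {g c : G} (hg : g ∈ P) (hc : c ∈ P)
    {A : Matrix.SpecialLinearGroup (Fin 2) F} (hA : ActsSL M.e U D c (sg j A)) :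
    ∃ j' A', ActsSL M.e U D (g * c * g⁻¹) (sg j' A') := by
  obtain ⟨σ, hσ⟩ := M.perm g hg
  obtain ⟨B, hB⟩ := M.norm g hg c hc _ hA.1
  have hB1 : ∀ l, l ≠ σ j → B l = 1 := by
    intro l hl
    apply ap_inj
    intro x
    obtain ⟨v, hv, hvl, -⟩ := Nb.exists_single M l x
    have hu : g⁻¹ * v * g ∈ U := by
      have := h.memV (inv_mem hg) hv
      rwa [inv_inv] at this
    have m := mem_blk hc hA hu
    have e1 : g * c * g⁻¹ * v * (g * c * g⁻¹)⁻¹ =
        g * (c * (g⁻¹ * v * g) * c⁻¹ * (g⁻¹ * v * g)⁻¹ * (g⁻¹ * v * g)) * g⁻¹ := by group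
    have e2 : g * (g⁻¹ * v * g) * g⁻¹ = v := by group
    have h1 := hB v hv l
    rw [e1, e_conj_mul h hg (blk_le h j m) hu, Pi.add_apply, e2, hvl] at h1
    have h5 := hσ _ (blk_le h j m) (σ.symm l)
    rw [σ.apply_symm_apply] at h5
    rw [h5.2 (e_blk h (fun h6 => hl (by rw [← h6, σ.apply_symm_apply])) m), zero_add] at h1
    rw [← h1, ap_one]
  refine ⟨σ j, B (σ j), ?_⟩
  rw [← eq_sg hB1]
  refine ⟨hB, fun d hd => ?_⟩
  have hd' : g⁻¹ * d * g ∈ D := by
    have := conj_mem h.DP' (inv_mem hg) hd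
    rwa [inv_inv] at this
  have h5 := hA.2 _ hd'
  calc g * c * g⁻¹ * d = g * (c * (g⁻¹ * d * g)) * g⁻¹ := by group
    _ = g * (g⁻¹ * d * g * c) * g⁻¹ := by rw [h5]
    _ = d * (g * c * g⁻¹) := by group

/-- `P` normalises `∏ [U, L_j]` -/
theorem conj_iSup_blk [CharP F 2] {g y : G} (hg : g ∈ P) (hy : y ∈ ⨆ j, blk M j) : g * y * g⁻¹ ∈ ⨆ j, blk M j := by
  have hle : ⨆ j, blk M j ≤ (⨆ j, blk M j).comap (MulAut.conj g).toMonoidHom := by
    refine iSup_le fun j => ?_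
    rw [blk, closure_le]
    rintro _ ⟨c, hc, A, hA, v, hv, rfl⟩
    obtain ⟨j', A', hA'⟩ := conj_sg h hg hc hA
    have h1 := mem_blk (mul_mem (mul_mem hg hc) (inv_mem hg)) hA' (h.memV hg hv)
    have h2 : g * (c * v * c⁻¹ * v⁻¹) * g⁻¹ = g * c * g⁻¹ * (g * v * g⁻¹) * (g * c * g⁻¹)⁻¹ * (g * v * g⁻¹)⁻¹ := by group
    rw [SetLike.mem_coe, mem_comap]
    change g * (c * v * c⁻¹ * v⁻¹) * g⁻¹ ∈ _
    rw [h2]
    exact le_iSup (blk M) j' h1
  exact hle hy

/-- `U = ∏ [U, L_j] · Ω₁(Z(S))`, in the form needed -/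
theorem exists_blk [CharP F 2] {Z E : Subgroup G} (hZU : Z ≤ U) (hZS : ∀ z ∈ Z, ∀ s ∈ S, s * z = z * s)
    (hgen : ∀ K : Subgroup G, Z ≤ K → P ≤ normalizer (K : Set G) → U ≤ K) (hZE : Z ≤ E) (hUE : ¬ U ≤ E) :
    ∃ j, ¬ blk M j ≤ E := by
  classical
  by_contra hall
  push Not at hall
  refine hUE ((hgen ((⨆ j, blk M j) ⊔ Z) le_sup_right ?_).trans (sup_le (iSup_le hall) hZE))
  set Y : Subgroup G := (⨆ j, blk M j) ⊔ Z with hY
  have hYU : Y ≤ U := sup_le (iSup_le (blk_le h)) hZU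
  -- a criterion for elements of the normaliser
  have crit : ∀ g ∈ P, (∀ z ∈ Z, g * z * g⁻¹ ∈ Y) → (∀ z ∈ Z, g⁻¹ * z * g ∈ Y) → g ∈ normalizer (Y : Set G) := by
    have one : ∀ g ∈ P, (∀ z ∈ Z, g * z * g⁻¹ ∈ Y) → ∀ y ∈ Y, g * y * g⁻¹ ∈ Y := by
      intro g hg hz
      have hle : Y ≤ Y.comap (MulAut.conj g).toMonoidHom :=
        sup_le (fun y hy => (le_sup_left : _ ≤ Y) (conj_iSup_blk h hg hy)) fun z hz' => hz z hz'
      exact fun y hy => hle hy
    intro g hg h1 h2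
    refine mem_normalizer_iff.2 fun y => ⟨one g hg h1 y, fun hy => ?_⟩
    have h3 := one g⁻¹ (inv_mem hg) (fun z hz => by rw [inv_inv]; exact h2 z hz) _ hy
    have e : g⁻¹ * (g * y * g⁻¹) * g⁻¹⁻¹ = y := by group
    rwa [e] at h3
  -- single factors
  have hsg : ∀ j A, ∀ c ∈ P, ActsSL M.e U D c (sg j A) → c ∈ normalizer (Y : Set G) := by
    intro j A c hc hA
    have one : ∀ j A, ∀ c ∈ P, ActsSL M.e U D c (sg j A) → ∀ z ∈ Z, c * z * c⁻¹ ∈ Y := by
      intro j A c hc hA z hz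
      have e : c * z * c⁻¹ = c * z * c⁻¹ * z⁻¹ * z := by group
      rw [e]
      exact mul_mem ((le_sup_left : _ ≤ Y) (le_iSup (blk M) j (mem_blk hc hA (hZU hz)))) ((le_sup_right : _ ≤ Y) hz)
    refine crit c hc (one j A c hc hA) fun z hz => ?_
    have h1 := h.acts_inv hc hA
    have h2 : (sg j A)⁻¹ = sg j A⁻¹ := by
      funext l
      rw [Pi.inv_apply]
      by_cases hl : l = j
      · rw [hl, sg_self, sg_self]
      · rw [sg_ne hl, sg_ne hl, inv_one]
    rw [h2] at h1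
    have h3 := one j A⁻¹ c⁻¹ (inv_mem hc) h1 z hz
    rwa [inv_inv] at h3
  refine M.gen _ ?_ ?_
  · intro s hs
    refine crit s (h.SP' hs) (fun z hz => ?_) fun z hz => ?_
    · rw [hZS z hz s hs, mul_inv_cancel_right]
      exact (le_sup_right : _ ≤ Y) hz
    · have h1 := hZS z hz s⁻¹ (inv_mem hs)
      rw [h1, inv_mul_cancel_right]
      exact (le_sup_right : _ ≤ Y) hz
  · intro g hg A hA
    have key : ∀ s : Finset (Fin k), ∀ A : Fin k → Matrix.SpecialLinearGroup (Fin 2) F, (∀ l, l ∉ s → A l = 1) →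
        ∀ g ∈ P, ActsSL M.e U D g A → g ∈ normalizer (Y : Set G) := by
      intro s
      induction s using Finset.induction_on with
      | empty =>
        intro A hA1 g hg hA
        have hA' : A = 1 := funext fun l => hA1 l (Finset.notMem_empty l)
        subst hA'
        refine mem_normalizer_iff.2 fun y => ?_
        constructor
        · intro hy
          rwa [h.comm_of_one hg hA (hYU hy), mul_inv_cancel_right]
        · intro hy
          have h1 := h.comm_of_one hg hA (hYU hy)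
          have h3 : g⁻¹ * (g * (g * y * g⁻¹)) = g⁻¹ * (g * y * g⁻¹ * g) := by rw [h1]
          rw [inv_mul_cancel_left, inv_mul_cancel_right, inv_mul_cancel_left] at h3
          rwa [h3] at hy
      | insert a s has ih =>
        intro A hA1 g hg hA
        obtain ⟨c, hc, hcA⟩ := M.lift (sg a (A a))
        have h1 := h.acts_mul hg (h.acts_inv hc hcA) hA
        have h2 := ih _ (fun l hl => ?_) (c⁻¹ * g) (mul_mem (inv_mem hc) hg) h1
        · have h3 := mul_mem (hsg a (A a) c hc hcA) h2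
          rwa [mul_inv_cancel_left] at h3
        · rw [Pi.mul_apply, Pi.inv_apply]
          by_cases hla : l = a
          · rw [hla, sg_self, inv_mul_cancel]
          · rw [sg_ne hla, hA1 l (fun h3 => (Finset.mem_insert.1 h3).elim hla hl), inv_one, one_mul]
    exact key Finset.univ A (fun l hl => absurd (Finset.mem_univ l) hl) g hg hA

end Cfsg.Agent.Omega.NO3S.KeyRad
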