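import Mathlib
import Cfsg.Agent.Lib.SL2Mat
import Cfsg.Agent.Omega.NatPair.Semi

/-!
# KEY over a radical line: two root elements cover `R`

`M` is an elementary abelian `SL₂(F)`-module (`|F| > 2` even) with a quotient `π : M → F²` of natural type whose
kernel is centralised by `SL₂(F)`, and `M = [M, SL₂(F)]`.  Then for `b ≠ b'` nonzero every `r ∈ M` over the
fixed line of the upper unitriangular group is the sum of a commutator with `up b` and one with `up b'`.
-/

set_option autoImplicit false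
set_option linter.unusedSectionVars false

namespace Cfsg.Agent.Omega.NO3S.KeyRad

open Cfsg.Agent.Lib.SL2Mat Cfsg.Agent.Omega.NatPair

section
variable {F : Type*} [Field F] {M : Type*} [AddCommGroup M]
  (ρ : Matrix.SpecialLinearGroup (Fin 2) F → M →+ M) (π : M →+ (Fin 2 → F))

/-- the data of `star` -/
structure StarD (ρ : Matrix.SpecialLinearGroup (Fin 2) F → M →+ M) (π : M →+ (Fin 2 → F)) : Prop where
  ch : ∀ x : F, x + x = 0
  h2 : ∀ m : M, m + m = 0
  hρ : ∀ A B m, ρ (A * B) m = ρ A (ρ B m)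
  h1 : ∀ m, ρ 1 m = m
  hπ : ∀ A m, π (ρ A m) = ap A (π m)
  hker : ∀ A m, π m = 0 → ρ A m = m
  hsurj : Function.Surjective π

variable {ρ π}

theorem StarD.wd (H : StarD ρ π) (A : Matrix.SpecialLinearGroup (Fin 2) F) {m m' : M} (h : π m = π m') :
    ρ A m - m = ρ A m' - m' := by
  have h0 : π (m - m') = 0 := by rw [map_sub, h, sub_self]
  have h3 := H.hker A _ h0
  rw [map_sub] at h3
  rw [sub_eq_sub_iff_sub_eq_sub, h3]

/-- a section of `π` -/
noncomputable def StarD.sc (H : StarD ρ π) (v : Fin 2 → F) : M := Function.surjInv H.hsurj v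

theorem StarD.pi_sc (H : StarD ρ π) (v : Fin 2 → F) : π (H.sc v) = v := Function.surjInv_eq H.hsurj v

/-- the map `v ↦ ρ(A) m - m` for any `m` over `v` -/
noncomputable def StarD.dl (H : StarD ρ π) (A : Matrix.SpecialLinearGroup (Fin 2) F) : (Fin 2 → F) →+ M where
  toFun v := ρ A (H.sc v) - H.sc v
  map_zero' := by
    have h : π (H.sc 0) = π 0 := by
      rw [H.pi_sc, map_zero]
    rw [H.wd A h, map_zero, sub_zero]
  map_add' v w := by
    have h : π (H.sc (v + w)) = π (H.sc v + H.sc w) := by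
      rw [map_add, H.pi_sc, H.pi_sc, H.pi_sc]
    rw [H.wd A h, map_add]
    abel

theorem StarD.dl_eq (H : StarD ρ π) (A : Matrix.SpecialLinearGroup (Fin 2) F) (m : M) :
    H.dl A (π m) = ρ A m - m :=
  H.wd A (H.pi_sc (π m))

theorem StarD.dl_eq' (H : StarD ρ π) (A : Matrix.SpecialLinearGroup (Fin 2) F) {m : M} {v : Fin 2 → F} (h : π m = v) :
    H.dl A v = ρ A m - m := by rw [← h]; exact H.dl_eq A m

theorem StarD.pi_dl (H : StarD ρ π) (A : Matrix.SpecialLinearGroup (Fin 2) F) (v : Fin 2 → F) :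
    π (H.dl A v) = ap A v - v := by
  obtain ⟨m, rfl⟩ := H.hsurj v
  rw [H.dl_eq, map_sub, H.hπ]

/-- conjugation -/
theorem StarD.conj (H : StarD ρ π) {A B C : Matrix.SpecialLinearGroup (Fin 2) F} (h : B * A = C * B)
    (v : Fin 2 → F) : ρ B (H.dl A v) = H.dl C (ap B v) := by
  obtain ⟨m, rfl⟩ := H.hsurj v
  rw [H.dl_eq, map_sub, ← H.hρ, h, H.hρ, H.dl_eq' C (H.hπ B m)]

theorem StarD.neg (H : StarD ρ π) (m : M) : -m = m := neg_eq_of_add_eq_zero_left (H.h2 m)

theorem StarD.fneg (H : StarD ρ π) (x : F) : -x = x := neg_eq_of_add_eq_zero_left (H.ch x)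

/-- an involution centralises its commutators -/
theorem StarD.inv_fix (H : StarD ρ π) {A : Matrix.SpecialLinearGroup (Fin 2) F} (h : A * A = 1)
    (v : Fin 2 → F) : ρ A (H.dl A v) = H.dl A v := by
  obtain ⟨m, rfl⟩ := H.hsurj v
  rw [H.dl_eq, map_sub, ← H.hρ, h, H.h1, ← neg_sub, H.neg]

theorem StarD.up_sq (H : StarD ρ π) (b : F) : up b * up b = 1 := by
  rw [up_mul, H.ch, up_zero]

/-- `up b` centralises everything over `(y, 0)` -/
theorem StarD.up_fix (H : StarD ρ π) (b : F) {v : Fin 2 → F} (hv : v 1 = 0) : H.dl (up b) v = 0 := by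
  rcases eq_or_ne b 0 with rfl | hb
  · rw [H.dl_eq' _ (H.pi_sc v), up_zero, H.h1, sub_self]
  have h1 : π (H.dl (up b) ![0, v 0 / b]) = v := by
    rw [H.pi_dl]
    apply ext2
    · rw [Pi.sub_apply, ap_zero']
      simp [hb, mul_div_cancel₀]
    · rw [Pi.sub_apply, ap_one', hv]
      simp
  rw [H.dl_eq' _ h1, H.inv_fix (H.up_sq b), sub_self]

/-- only the second coordinate matters for `up b` -/
theorem StarD.up_dep (H : StarD ρ π) (b : F) (v : Fin 2 → F) : H.dl (up b) v = H.dl (up b) ![0, v 1] := by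
  have h : v = ![v 0, 0] + ![0, v 1] := by
    apply ext2 <;> simp
  conv_lhs => rw [h]
  rw [map_add, H.up_fix b (by simp), zero_add]

/-- the torus section over `(x, 0)` -/
noncomputable def StarD.P (H : StarD ρ π) {t : F} (ht : t ≠ 0) : F →+ M where
  toFun x := H.dl (dg t ht) ![x / (t + 1), 0]
  map_zero' := by
    have : (![0 / (t + 1), 0] : Fin 2 → F) = 0 := by apply ext2 <;> simp
    rw [this, map_zero]
  map_add' x y := by
    have : (![(x + y) / (t + 1), 0] : Fin 2 → F) = ![x / (t + 1), 0] + ![y / (t + 1), 0] := by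
      apply ext2 <;> simp [add_div]
    rw [this, map_add]

theorem StarD.P_apply (H : StarD ρ π) {t : F} (ht : t ≠ 0) (x : F) :
    H.P ht x = H.dl (dg t ht) ![x / (t + 1), 0] := rfl

theorem StarD.add_one_ne (H : StarD ρ π) {t : F} (ht1 : t ≠ 1) : t + 1 ≠ 0 := by
  intro h
  apply ht1
  rw [eq_neg_of_add_eq_zero_left h, H.fneg]

theorem StarD.pi_P (H : StarD ρ π) {t : F} (ht : t ≠ 0) (ht1 : t ≠ 1) (x : F) : π (H.P ht x) = ![x, 0] := by
  have h1 := H.add_one_ne ht1
  rw [H.P_apply, H.pi_dl]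
  apply ext2
  · rw [Pi.sub_apply, ap_zero']
    simp only [dg_00, dg_01, Matrix.cons_val_zero, Matrix.cons_val_one, mul_zero, add_zero]
    rw [sub_eq_add_neg, H.fneg]
    field_simp
  · rw [Pi.sub_apply, ap_one']
    simp

/-- the torus acts on the torus section -/
theorem StarD.dg_P (H : StarD ρ π) {t : F} (ht : t ≠ 0) {s : F} (hs : s ≠ 0) (x : F) :
    ρ (dg s hs) (H.P ht x) = H.P ht (s * x) := by
  rw [H.P_apply, H.P_apply, H.conj (C := dg t ht)]
  · congr 1
    apply ext2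
    · rw [ap_zero']; simp; ring
    · rw [ap_one']; simp
  · refine ext_ent ?_ ?_ ?_ ?_ <;> simp [ent_mul, mul_comm]

/-- the defect of the torus section -/
noncomputable def StarD.ph (H : StarD ρ π) {t : F} (ht : t ≠ 0) (β c : F) : M :=
  H.dl (up β) ![0, c] - H.P ht (β * c)

theorem StarD.pi_ph (H : StarD ρ π) {t : F} (ht : t ≠ 0) (ht1 : t ≠ 1) (β c : F) : π (H.ph ht β c) = 0 := by
  rw [StarD.ph, map_sub, H.pi_P ht ht1, H.pi_dl]
  apply ext2
  · rw [Pi.sub_apply, Pi.sub_apply, ap_zero']; simp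
  · rw [Pi.sub_apply, Pi.sub_apply, ap_one']; simp

/-- `φ(s², c) = φ(1, s c)` -/
theorem StarD.ph_sq (H : StarD ρ π) {t : F} (ht : t ≠ 0) (ht1 : t ≠ 1) {s : F} (hs : s ≠ 0) (c : F) :
    H.ph ht (s ^ 2) c = H.ph ht 1 (s * c) := by
  rw [← H.hker (dg s hs) _ (H.pi_ph ht ht1 1 (s * c)), StarD.ph, StarD.ph, map_sub, H.dg_P ht hs,
    H.conj (C := up (s ^ 2))]
  · congr 2
    · apply ext2
      · rw [ap_zero']; simp
      · rw [ap_one']; simp [hs]
    · ring
  · rw [dg_up, mul_one]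

/-- `λ∘Φ = 0` kills the defects -/
theorem StarD.lam_ph [Finite F] (H : StarD ρ π) {t : F} (ht : t ≠ 0) (ht1 : t ≠ 1) (l : M →+ ZMod 2)
    (hl : ∀ c, l (H.ph ht 1 c) = 0) (β c : F) : l (H.ph ht β c) = 0 := by
  have hch : ringChar F = 2 := by
    have h2 : (2 : F) = 0 := by
      have := H.ch 1
      rw [one_add_one_eq_two] at this
      exact this
    have := CharTwo.of_one_ne_zero_of_two_eq_zero (R := F) one_ne_zero h2
    exact ringChar.eq F 2
  obtain ⟨s, hs⟩ := FiniteField.isSquare_of_char_two hch β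
  rcases eq_or_ne s 0 with h0 | h0
  · subst h0
    have : H.ph ht β c = 0 := by
      rw [StarD.ph, hs, mul_zero, zero_mul, map_zero, sub_zero, H.dl_eq' _ (H.pi_sc _), up_zero, H.h1, sub_self]
    rw [this, map_zero]
  · rw [hs, ← pow_two, H.ph_sq ht ht1 h0]
    exact hl _

/-- the invariant functional -/
noncomputable def StarD.th (H : StarD ρ π) {t : F} (ht : t ≠ 0) (l : M →+ ZMod 2) : M →+ ZMod 2 where
  toFun m := l (m - H.P ht (π m 0) - ρ (wm 1 one_ne_zero) (H.P ht (π m 1)))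
  map_zero' := by simp
  map_add' a b := by
    rw [← map_add]
    congr 1
    rw [map_add, Pi.add_apply, Pi.add_apply, map_add, map_add, map_add]
    abel

theorem StarD.th_apply (H : StarD ρ π) {t : F} (ht : t ≠ 0) (l : M →+ ZMod 2) (m : M) :
    H.th ht l m = l (m - H.P ht (π m 0) - ρ (wm 1 one_ne_zero) (H.P ht (π m 1))) := rfl

theorem StarD.th_up [Finite F] (H : StarD ρ π) {t : F} (ht : t ≠ 0) (ht1 : t ≠ 1) (l : M →+ ZMod 2)
    (hl : ∀ c, l (H.ph ht 1 c) = 0) (β : F) (v : Fin 2 → F) : H.th ht l (H.dl (up β) v) = 0 := by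
  rw [H.up_dep, H.th_apply, H.pi_dl]
  have e0 : (ap (up β) ![0, v 1] - ![0, v 1]) 0 = β * v 1 := by
    rw [Pi.sub_apply, ap_zero']; simp
  have e1 : (ap (up β) ![0, v 1] - ![0, v 1]) 1 = 0 := by
    rw [Pi.sub_apply, ap_one']; simp
  rw [e0, e1, map_zero, map_zero, sub_zero]
  exact H.lam_ph ht ht1 l hl β (v 1)

theorem StarD.th_lo [Finite F] (H : StarD ρ π) {t : F} (ht : t ≠ 0) (ht1 : t ≠ 1) (l : M →+ ZMod 2)
    (hl : ∀ c, l (H.ph ht 1 c) = 0) (β : F) (v : Fin 2 → F) : H.th ht l (H.dl (lo β) v) = 0 := by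
  -- `dl (lo β) v = ρ w (dl (up β) (w⁻¹ v))`
  have hw : wm (1 : F) one_ne_zero * up β = lo β * wm 1 one_ne_zero := by
    rw [wm_up]; simp [H.fneg]
  have hv : v = ap (wm (1 : F) one_ne_zero) (ap (wm (1 : F) one_ne_zero)⁻¹ v) := (ap_ap_inv _ _).symm
  rw [hv, ← H.conj hw, H.up_dep]
  set c := (ap (wm (1 : F) one_ne_zero)⁻¹ v) 1 with hc
  rw [H.th_apply, H.hπ, H.pi_dl]
  have e0 : (ap (wm (1 : F) one_ne_zero) (ap (up β) ![0, c] - ![0, c])) 0 = 0 := by
    rw [ap_zero']; simp [ap_one', ap_zero']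
  have e1 : (ap (wm (1 : F) one_ne_zero) (ap (up β) ![0, c] - ![0, c])) 1 = β * c := by
    rw [ap_one']; simp [ap_one', ap_zero', H.fneg]
  rw [e0, e1, map_zero, sub_zero, ← map_sub]
  have h3 : H.dl (up β) ![0, c] - H.P ht (β * c) = H.ph ht β c := rfl
  rw [h3, H.hker _ _ (H.pi_ph ht ht1 β c)]
  exact H.lam_ph ht ht1 l hl β c

/-- the functional `θ` is `SL₂(F)`-invariant -/
theorem StarD.th_inv [Finite F] (H : StarD ρ π) {t : F} (ht : t ≠ 0) (ht1 : t ≠ 1) (l : M →+ ZMod 2)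
    (hl : ∀ c, l (H.ph ht 1 c) = 0) (A : Matrix.SpecialLinearGroup (Fin 2) F) (m : M) :
    H.th ht l (ρ A m) = H.th ht l m := by
  have hu : ∀ b m, H.th ht l (ρ (up b) m) = H.th ht l m := by
    intro b m
    have := H.th_up ht ht1 l hl b (π m)
    rw [H.dl_eq, map_sub, sub_eq_zero] at this
    exact this
  have hlo : ∀ b m, H.th ht l (ρ (lo b) m) = H.th ht l m := by
    intro b m
    have := H.th_lo ht ht1 l hl b (π m)
    rw [H.dl_eq, map_sub, sub_eq_zero] at this
    exact this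
  obtain ⟨a, b, c, d, rfl⟩ := exists_up_lo A
  rw [H.hρ, H.hρ, H.hρ, hu, hlo, hu, hlo]

end

/-- two root elements cover `R` -/
theorem star {F : Type*} [Field F] [Finite F] [CharP F 2] (hF : 2 < Nat.card F) {M : Type*} [AddCommGroup M]
    [Finite M] (h2 : ∀ m : M, m + m = 0) (ρ : Matrix.SpecialLinearGroup (Fin 2) F → M →+ M)
    (hρ : ∀ A B m, ρ (A * B) m = ρ A (ρ B m)) (h1 : ∀ m, ρ 1 m = m) (π : M →+ (Fin 2 → F))
    (hπ : ∀ A m, π (ρ A m) = ap A (π m)) (hker : ∀ A m, π m = 0 → ρ A m = m) (hsurj : Function.Surjective π)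
    (hgen : ∀ N : AddSubgroup M, (∀ A m, ρ A m - m ∈ N) → N = ⊤) {b b' : F} (hb : b ≠ 0) (hb' : b' ≠ 0)
    (hne : b ≠ b') {r : M} (hr : π r 1 = 0) : ∃ m m', r = (ρ (up b) m - m) + (ρ (up b') m' - m') := by
  have H : StarD ρ π := ⟨CharTwo.add_self_eq_zero, h2, hρ, h1, hπ, hker, hsurj⟩
  -- a torus element
  obtain ⟨t, ht, ht1⟩ : ∃ t : F, t ≠ 0 ∧ t ≠ 1 := by
    by_contra hcon
    push Not at hcon
    have hs : (Set.univ : Set F) ⊆ {0, 1} := by
      intro x _
      rcases eq_or_ne x 0 with h | h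
      · exact Or.inl h
      · exact Or.inr (hcon x h)
    have h3 := Set.ncard_le_ncard hs (Set.toFinite _)
    rw [Set.ncard_univ, Set.ncard_pair zero_ne_one] at h3
    omega
  by_contra hcon
  push Not at hcon
  let _ : Module (ZMod 2) M := AddCommGroup.zmodModule (n := 2) (fun m => by rw [two_nsmul, h2])
  -- the subgroup of all sums
  let S : AddSubgroup M := (H.dl (up b)).range ⊔ (H.dl (up b')).range
  have hrS : r ∉ S := by
    intro h
    obtain ⟨x, ⟨v, rfl⟩, y, ⟨v', rfl⟩, hxy⟩ := AddSubgroup.mem_sup.1 h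
    exact hcon (H.sc v) (H.sc v') hxy.symm
  obtain ⟨l0, hl, hlS⟩ := Submodule.exists_dual_map_eq_bot_of_notMem (p := AddSubgroup.toZModSubmodule 2 S) (x := r) hrS
    inferInstance
  have hlS' : ∀ x ∈ S, l0 x = 0 := by
    intro x hx
    have h3 : l0 x ∈ Submodule.map l0 (AddSubgroup.toZModSubmodule 2 S) := ⟨x, hx, rfl⟩
    rw [hlS] at h3
    exact (Submodule.mem_bot _).1 h3
  let l : M →+ ZMod 2 := l0.toAddMonoidHom
  have hlr : l r ≠ 0 := hl
  have hlS2 : ∀ x ∈ S, l x = 0 := hlS'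
  have hch : ringChar F = 2 := ringChar.eq F 2
  -- the comparison for one root element
  have hone : ∀ {β : F}, β ≠ 0 → (∀ c, l (H.dl (up β) ![0, c]) = 0) →
      ∃ s : F, s ≠ 0 ∧ β = s * s ∧ ∀ d, l (H.P ht (s * d)) = l (H.ph ht 1 d) := by
    intro β hβ hβl
    obtain ⟨s, hs⟩ := FiniteField.isSquare_of_char_two hch β
    have hs0 : s ≠ 0 := by rintro rfl; exact hβ (by rw [hs, mul_zero])
    refine ⟨s, hs0, hs, fun d => ?_⟩
    have h3 := hβl (d / s)
    have h4 : H.dl (up β) ![0, d / s] = H.P ht (s * d) + H.ph ht 1 d := by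
      have h5 : H.ph ht 1 d = H.ph ht (s ^ 2) (d / s) := by
        rw [H.ph_sq ht ht1 hs0]
        congr 1
        field_simp
      rw [h5, StarD.ph, pow_two, ← hs]
      have h6 : β * (d / s) = s * d := by rw [hs]; field_simp
      rw [h6]
      abel
    rw [h4, map_add] at h3
    have h7 := eq_neg_of_add_eq_zero_left h3
    rw [h7]
    generalize l (H.ph ht 1 d) = z
    revert z
    decide
  obtain ⟨s, hs0, hs, hsl⟩ := hone hb (fun c => hlS2 _ (AddSubgroup.mem_sup_left ⟨_, rfl⟩))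
  obtain ⟨s', hs0', hs', hsl'⟩ := hone hb' (fun c => hlS2 _ (AddSubgroup.mem_sup_right ⟨_, rfl⟩))
  have hss : s - s' ≠ 0 := by
    intro h
    apply hne
    rw [hs, hs', sub_eq_zero.1 h]
  have hP : ∀ x, l (H.P ht x) = 0 := by
    intro x
    have h3 : x = s * (x / (s - s')) - s' * (x / (s - s')) := by field_simp
    rw [h3, map_sub, map_sub, hsl, hsl', sub_self]
  have hph : ∀ c, l (H.ph ht 1 c) = 0 := fun c => by rw [← hsl c]; exact hP _
  have htop := hgen (H.th ht l).ker (fun A m => by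
    rw [AddMonoidHom.mem_ker, map_sub, H.th_inv ht ht1 l hph, sub_self])
  have hr0 : H.th ht l r = 0 := by
    have : r ∈ (H.th ht l).ker := by rw [htop]; exact AddSubgroup.mem_top _
    exact this
  rw [H.th_apply, hr, map_zero, map_zero, sub_zero, map_sub, hP, sub_zero] at hr0
  exact hlr hr0

end Cfsg.Agent.Omega.NO3S.KeyRad
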